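import Cfsg.Agent.H61.GI.Local

/-!
Reduction to the minimal situation (helper3, adapted from helper64's `SEP/Main`).
-/

set_option autoImplicit false
set_option linter.style.haveILetI false
set_option linter.unusedSectionVars false

namespace H61.GI

open Subgroup

universe u

namespace Setup

variable {G : Type u} [Group G] [Finite G] {H W T : Subgroup G} (S : Setup G H W T)
include S

theorem mem_sup_invol {i : G} (hiH : i ∈ H) (hi : orderOf i = 2) : i ∈ W ⊔ T := by
  obtain ⟨s, hs, his⟩ := S.invol i hiH hi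
  have h := mul_mem (mem_sup_left his : i * s ∈ W ⊔ T) (mem_sup_right hs)
  rwa [mul_assoc, S.T_sq s hs, mul_one] at h

theorem core_odd : Odd (Nat.card H.normalCore) := by
  rcases Nat.even_or_odd (Nat.card H.normalCore) with he | ho
  · exfalso
    obtain ⟨i, hi, hi2⟩ := H65.exists_two_mem he
    obtain ⟨z, hz2, hzH⟩ := H67.se_exists_invol_not_mem S.se
    obtain ⟨g, hg⟩ := isConj_iff.1 (H67.se_isConj S.se hi2 hz2)
    exact hzH (hg ▸ hi g)
  · exact ho

theorem core_le : H.normalCore ≤ W := by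
  intro n hn
  have hnH : n ∈ H := H.normalCore_le hn
  have hno : Odd (orderOf n) := S.core_odd.of_dvd_nat (Subgroup.orderOf_dvd_natCard _ hn)
  refine S.odd_act n hnH hno fun s hs => ?_
  by_cases hs1 : s = 1
  · rw [hs1, mul_one, mul_one, mul_inv_cancel]; exact one_mem _
  have hi := S.orderOf_two hs hs1
  refine S.mem_W_of_odd (mul_mem (S.mem_sup_invol (mul_mem (mul_mem hnH (S.T_le hs)) (inv_mem hnH))
    (H67.invol_conj hi n)) (mem_sup_right hs)) (S.core_odd.of_dvd_nat (Subgroup.orderOf_dvd_natCard _ ?_))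
  have h := mul_mem hn (H.normalCore_normal.conj_mem _ (inv_mem hn) s)
  rwa [← mul_assoc, ← mul_assoc, S.inv_self hs] at h

theorem mk_mem_map_iff {K : Subgroup G} (hNK : H.normalCore ≤ K) {x : G} :
    (x : G ⧸ H.normalCore) ∈ K.map (QuotientGroup.mk' H.normalCore) ↔ x ∈ K := by
  constructor
  · rintro ⟨y, hy, hyx⟩
    have h := hNK (QuotientGroup.eq.1 hyx)
    have h2 := mul_mem hy h
    rwa [mul_inv_cancel_left] at h2
  · exact fun hx => ⟨x, hx, rfl⟩

/-- An involution of `H` modulo the core is the image of an involution. -/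
theorem exists_lift {x : G} (hx : x ∈ H) (h2 : orderOf (x : G ⧸ H.normalCore) = 2) :
    ∃ i ∈ H, orderOf i = 2 ∧ (i : G ⧸ H.normalCore) = (x : G ⧸ H.normalCore) := by
  refine ⟨x ^ Nat.card H.normalCore, pow_mem hx _, ?_, ?_⟩
  · have hsq : x ^ 2 ∈ H.normalCore := by
      rw [← QuotientGroup.eq_one_iff, QuotientGroup.mk_pow, ← h2, pow_orderOf_eq_one]
    refine orderOf_eq_prime ?_ fun h => ?_
    · rw [← pow_mul, mul_comm, pow_mul]
      exact congrArg Subtype.val (pow_card_eq_one' (x := (⟨x ^ 2, hsq⟩ : H.normalCore)))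
    · have h' := congrArg (fun y : G => (y : G ⧸ H.normalCore)) h
      simp only [QuotientGroup.mk_pow, QuotientGroup.mk_one] at h'
      have hdvd := orderOf_dvd_of_pow_eq_one h'
      rw [h2] at hdvd
      exact Nat.not_even_iff_odd.2 S.core_odd (even_iff_two_dvd.2 hdvd)
  · obtain ⟨j, hj⟩ := S.core_odd
    rw [QuotientGroup.mk_pow, hj, pow_succ, pow_mul, ← h2, pow_orderOf_eq_one, one_pow, one_mul]

/-- The image of `T` modulo the core has the same order. -/
theorem card_map_T : Nat.card (T.map (QuotientGroup.mk' H.normalCore)) = Nat.card T := by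
  let f : T → T.map (QuotientGroup.mk' H.normalCore) :=
    fun s => ⟨_, Subgroup.mem_map_of_mem _ s.2⟩
  refine (Nat.card_congr (Equiv.ofBijective f ⟨fun s r h => ?_, ?_⟩)).symm
  · have h' := S.core_le (QuotientGroup.eq.1 (congrArg Subtype.val h))
    rw [S.inv_self s.2] at h'
    exact Subtype.ext (S.eq_of_mul_mem s.2 r.2 h')
  · rintro ⟨_, s, hs, rfl⟩
    exact ⟨⟨s, hs⟩, rfl⟩

/-- The setting modulo the core. -/
theorem quotient :
    Setup (G ⧸ H.normalCore) (H.map (QuotientGroup.mk' H.normalCore))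
      (W.map (QuotientGroup.mk' H.normalCore)) (T.map (QuotientGroup.mk' H.normalCore)) := by
  classical
  haveI : Fact (Nat.Prime 2) := ⟨Nat.prime_two⟩
  set N := H.normalCore with hN
  have hNW := S.core_le
  have hNH : N ≤ H := H.normalCore_le
  have hcard : Nat.card (T.map (QuotientGroup.mk' N)) = Nat.card T := S.card_map_T
  have hodd : ∀ h : G, Odd (orderOf (h : G ⧸ N)) → Odd (orderOf h) := by
    intro h ho
    refine Odd.of_dvd_nat (ho.mul S.core_odd) (orderOf_dvd_of_pow_eq_one ?_)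
    have hmem : h ^ orderOf (h : G ⧸ N) ∈ N := by
      rw [← QuotientGroup.eq_one_iff, QuotientGroup.mk_pow, pow_orderOf_eq_one]
    rw [pow_mul]
    exact congrArg Subtype.val (pow_card_eq_one' (x := (⟨_, hmem⟩ : N)))
  have hmemW : ∀ x : G, (x : G ⧸ N) ∈ W.map (QuotientGroup.mk' N) ↔ x ∈ W := fun x =>
    S.mk_mem_map_iff hNW
  refine
    { se := ?_
      W_le := Subgroup.map_mono S.W_le
      W_conj := ?_
      W_odd := S.W_odd.of_dvd_nat (Subgroup.card_map_dvd _ _)
      T_le := Subgroup.map_mono S.T_le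
      T_sq := ?_
      four_le := hcard ▸ S.four_le
      invol := ?_
      act := ?_
      odd_act := ?_ }
  · have hne : H.map (QuotientGroup.mk' N) ≠ ⊤ := fun h => by
      refine S.se.1 (eq_top_iff.2 fun g _ => (S.mk_mem_map_iff hNH).1 ?_)
      exact h ▸ Subgroup.mem_top _
    obtain ⟨t, ht, ht1⟩ : ∃ t ∈ T, t ≠ 1 := by
      refine (T.ne_bot_iff_exists_ne_one.1 fun h => ?_).elim fun x hx =>
        ⟨x, x.2, fun e => hx (Subtype.ext e)⟩
      have := S.four_le
      rw [h, Subgroup.card_bot] at this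
      omega
    have heven : Even (Nat.card (H.map (QuotientGroup.mk' N))) := by
      refine H65.even_card_of_mem (t := (t : G ⧸ N)) ⟨t, S.T_le ht, rfl⟩ (orderOf_eq_prime ?_ ?_)
      · rw [← QuotientGroup.mk_pow, pow_two, S.T_sq t ht, QuotientGroup.mk_one]
      · exact fun e => ht1 (S.eq_one_of_mem ht (hNW ((QuotientGroup.eq_one_iff t).1 e)))
    refine (H65.se_iff hne heven).2 fun x g hx hxH hg => ?_
    obtain ⟨x, rfl⟩ := QuotientGroup.mk_surjective x
    obtain ⟨g, rfl⟩ := QuotientGroup.mk_surjective g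
    obtain ⟨i, hiH, hi2, hix⟩ := S.exists_lift ((S.mk_mem_map_iff hNH).1 hxH) hx
    rw [← hix, ← QuotientGroup.mk_inv, ← QuotientGroup.mk_mul, ← QuotientGroup.mk_mul] at hg
    exact ⟨g, H65.se_conj_mem S.se hi2 hiH ((S.mk_mem_map_iff hNH).1 hg), rfl⟩
  · rintro _ ⟨h, hh, rfl⟩ _ ⟨w, hw, rfl⟩
    exact ⟨h * w * h⁻¹, S.W_conj h hh w hw, by rw [map_mul, map_mul, map_inv]⟩
  · rintro _ ⟨s, hs, rfl⟩
    rw [← map_mul, S.T_sq s hs, map_one]
  · intro x hx hx2
    obtain ⟨x, rfl⟩ := QuotientGroup.mk_surjective x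
    obtain ⟨i, hiH, hi2, hix⟩ := S.exists_lift ((S.mk_mem_map_iff hNH).1 hx) hx2
    obtain ⟨s, hs, his⟩ := S.invol i hiH hi2
    refine ⟨(s : G ⧸ N), ⟨s, hs, rfl⟩, ?_⟩
    rw [← hix, ← QuotientGroup.mk_mul]
    exact ⟨_, his, rfl⟩
  · rintro _ ⟨h, hh, rfl⟩ _ ⟨t, ht, rfl⟩ ht1 hmem _ ⟨s, hs, rfl⟩
    rw [← map_inv, ← map_mul, ← map_mul, ← map_mul] at hmem ⊢
    exact ⟨_, S.act h hh t ht (fun e => ht1 (by rw [e, map_one])) ((hmemW _).1 hmem) s hs, rfl⟩
  · intro x hx hxo htr
    obtain ⟨h, rfl⟩ := QuotientGroup.mk_surjective x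
    refine ⟨h, S.odd_act h ((S.mk_mem_map_iff hNH).1 hx) (hodd h hxo) fun s hs => ?_, rfl⟩
    have := htr (s : G ⧸ N) ⟨s, hs, rfl⟩
    rw [← QuotientGroup.mk_inv, ← QuotientGroup.mk_mul, ← QuotientGroup.mk_mul,
      ← QuotientGroup.mk_mul] at this
    exact (hmemW _).1 this

/-- The oracle modulo the core. -/
theorem oracle_quotient (O : Oracle H W T) :
    Oracle (H.map (QuotientGroup.mk' H.normalCore)) (W.map (QuotientGroup.mk' H.normalCore))
      (T.map (QuotientGroup.mk' H.normalCore)) := by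
  classical
  haveI : Fact (Nat.Prime 2) := ⟨Nat.prime_two⟩
  set N := H.normalCore with hN
  set π := QuotientGroup.mk' N with hπ
  have hsurj : Function.Surjective π := QuotientGroup.mk'_surjective N
  rintro Mb hMb hMbH wb ⟨w, hw, rfl⟩ hTMb Pb hPb hTPb
  have hTeq : (T.map π).map (MulAut.conj (π w)).toMonoidHom =
      (T.map (MulAut.conj w).toMonoidHom).map π := by
    rw [Subgroup.map_map, Subgroup.map_map]
    congr 1
  rw [hTeq] at hTMb hTPb ⊢
  set T' := T.map (MulAut.conj w).toMonoidHom with hT'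
  set M := Mb.comap π with hM
  set P₀ := Pb.comap π with hP₀
  have hP₀le : P₀ ≤ H ⊓ M := fun x hx =>
    ⟨(S.mk_mem_map_iff H.normalCore_le).1 (hPb.le hx).1, (hPb.le hx).2⟩
  have hHM : (H.map π ⊓ Mb).comap π = H ⊓ M := by
    ext x
    exact and_congr_left' (S.mk_mem_map_iff H.normalCore_le)
  have hMne : M ≠ ⊤ := fun h => hMb (by
    rw [← Subgroup.map_comap_eq_self_of_surjective hsurj Mb]
    exact (congrArg _ h).trans (Subgroup.map_top_of_surjective π hsurj))
  have hMH : ¬ M ≤ H := fun h => hMbH fun x hx => by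
    obtain ⟨x, rfl⟩ := hsurj x
    exact ⟨x, h hx, rfl⟩
  have hT'2 : IsPGroup 2 T' := by
    rintro ⟨_, s, hs, rfl⟩
    refine ⟨1, Subtype.ext ?_⟩
    show (MulAut.conj w s) ^ (2 ^ 1) = 1
    rw [pow_one, pow_two, ← map_mul, S.T_sq s hs, map_one]
  have hT'P₀ : T' ≤ P₀ := fun x hx => hTPb ⟨x, hx, rfl⟩
  obtain ⟨P, hP, hT'P⟩ := H82.exists_sylowIn_ge hT'2 hT'P₀
  -- `P` is also Sylow in `H ⊓ M`
  have hPHM : H82.SylowIn 2 P (H ⊓ M) := by
    refine ⟨hP.le.trans hP₀le, hP.isPGroup, fun h => ?_⟩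
    rw [← Subgroup.relIndex_mul_relIndex P P₀ (H ⊓ M) hP.le hP₀le] at h
    rcases Nat.prime_two.dvd_mul.1 h with h | h
    · exact hP.not_dvd h
    · refine hPb.not_dvd ?_
      rwa [hP₀, ← hHM, Subgroup.relIndex_comap,
        Subgroup.map_comap_eq_self_of_surjective hsurj] at h
  -- `P` maps isomorphically onto `Pb`
  let φ : P →* Pb := (π.comp P.subtype).codRestrict Pb fun x => hP.le x.2
  have hinj : Function.Injective φ := by
    refine (injective_iff_map_eq_one φ).2 fun x hx => ?_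
    have hxN : (x : G) ∈ N := (QuotientGroup.eq_one_iff _).1 (congrArg Subtype.val hx)
    obtain ⟨k, hk⟩ := hP.isPGroup x
    have h1 : orderOf (x : G) ∣ 2 ^ k := by
      rw [Subgroup.orderOf_coe]; exact orderOf_dvd_of_pow_eq_one hk
    have h2 := S.core_odd.of_dvd_nat (Subgroup.orderOf_dvd_natCard _ hxN)
    exact Subtype.ext (orderOf_eq_one_iff.1 (Nat.eq_one_of_dvd_coprimes
      ((Nat.coprime_two_left.2 h2).pow_left k) h1 dvd_rfl))
  have hmap : P.map π = Pb := by
    have h1 : P.map π ≤ Pb := by rintro _ ⟨x, hx, rfl⟩; exact hP.le hx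
    refine le_antisymm h1 (Subgroup.relIndex_eq_one.1 ?_)
    obtain ⟨k, hk⟩ := IsPGroup.iff_card.1 hPb.isPGroup
    have h2 : (P.map π).relIndex Pb ∣ Nat.card Pb := Subgroup.relIndex_dvd_card _ _
    have h3 : (P.map π).relIndex Pb ∣ P.relIndex P₀ := by
      rw [← Subgroup.map_comap_eq_self_of_surjective hsurj Pb, ← hP₀, Subgroup.relIndex_map_map]
      calc (P ⊔ π.ker).relIndex (P₀ ⊔ π.ker) = (P ⊔ π.ker).relIndex P₀ := by
            rw [sup_eq_left.2 (π.ker_le_comap Pb)]
        _ ∣ P.relIndex P₀ := Subgroup.relIndex_dvd_of_le_left P₀ le_sup_left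
    rw [hk] at h2
    exact Nat.eq_one_of_dvd_coprimes
      ((Nat.prime_two.coprime_iff_not_dvd.2 hP.not_dvd).pow_left k) h2 h3
  have hsurjφ : Function.Surjective φ := by
    rintro ⟨y, hy⟩
    rw [← hmap] at hy
    obtain ⟨x, hx, rfl⟩ := hy
    exact ⟨⟨x, hx⟩, rfl⟩
  have e : P ≃* Pb := MulEquiv.ofBijective φ ⟨hinj, hsurjφ⟩
  have hcT : Nat.card (T'.map π) = Nat.card T' := by
    let f : T' → T'.map π := fun s => ⟨_, Subgroup.mem_map_of_mem _ s.2⟩
    refine (Nat.card_congr (Equiv.ofBijective f ⟨fun s r h => ?_, ?_⟩)).symm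
    · have h' : φ ⟨s, hT'P s.2⟩ = φ ⟨r, hT'P r.2⟩ := Subtype.ext (congrArg (fun z : T'.map π => (z : G ⧸ N)) h :)
      exact Subtype.ext (congrArg (fun z : P => (z : G)) (hinj h'))
    · rintro ⟨_, s, hs, rfl⟩
      exact ⟨⟨s, hs⟩, rfl⟩
  rcases O M hMne hMH w hw (fun x hx => hTMb ⟨x, hx, rfl⟩) P hPHM hT'P with h | h
  · exact Or.inl (by rw [← Nat.card_congr e.toEquiv, h, hcT])
  · exact Or.inr (h.congr e)

end Setup

/-- Reduction of the main theorem to the minimal situation. -/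
theorem good_of_base
    (hbase : ∀ {G : Type u} [Group G] [Finite G] {H W T : Subgroup G} {z : G},
      Base G H W T z → Good H W)
    {G : Type u} [Group G] [Finite G] {H W T : Subgroup G} (S : Setup G H W T)
    (O : Oracle H W T) : Good H W := by
  induction hn : Nat.card G using Nat.strong_induction_on generalizing G with
  | _ n IH =>
    subst hn
    by_cases hcore : H.normalCore = ⊥
    · obtain ⟨z, hz2, hzH⟩ := H67.se_exists_invol_not_mem S.se
      refine hbase (⟨S, hcore, hz2, hzH, O, fun M hM H' W' T' S' O' => ?_⟩ : Base G H W T z)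
      refine IH (Nat.card M) ?_ S' O' rfl
      refine lt_of_le_of_ne (Subgroup.card_le_card_group M) fun e => hM ?_
      exact Subgroup.eq_top_of_card_eq M e
    · have hlt : Nat.card (G ⧸ H.normalCore) < Nat.card G := by
        rw [← H.normalCore.index_eq_card, ← H.normalCore.card_mul_index]
        exact lt_mul_left (Nat.pos_of_ne_zero H.normalCore.index_ne_zero_of_finite)
          ((Subgroup.one_lt_card_iff_ne_bot _).2 hcore)
      have h1 := IH _ hlt S.quotient (S.oracle_quotient O) rfl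
      intro w hw g
      refine (S.mk_mem_map_iff H.normalCore_le).1 ?_
      rw [QuotientGroup.mk_mul, QuotientGroup.mk_mul, QuotientGroup.mk_inv]
      exact h1 ⟨w, hw, rfl⟩ (g : G ⧸ H.normalCore)

end H61.GI
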